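import Cfsg.Agent.H883.BR.Defs

/-!
# Coefficient functions of a representation (helper811, HUB BR)

* `Pol F x D` : the functions on `G` which are polynomials of degree `≤ D` along the cosets `g x_i(F)`;
* `rtr h` : the right translation, an algebra homomorphism;
* `Cf R` : the space of the functions `y ↦ φ (R y) + c`, `φ` a functional on `End V`: translation invariant, of dimension
  at most `n² + 1`, contained in `Pol F x e`;
* `finrank_pow_le` : `dim P ^ k ≤ (dim P) ^ k`;
* `entry_mem`, `trace_mem` : the entries of `R (y ^ k)` and `(tr R y) ^ k` are in `Cf R ^ k`.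
-/

set_option autoImplicit false

namespace Cfsg.Agent.H811.BR

open Cfsg.Agent.H883.BR Polynomial Module
open scoped Pointwise

universe u v w

/-! ### powers of submodules -/

section pow

variable {K A : Type*} [Field K] [CommRing A] [Algebra K A]

theorem exists_span (P : Submodule K A) [FiniteDimensional K P] :
    ∃ S : Finset A, S.card ≤ finrank K P ∧ Submodule.span K (S : Set A) = P := by
  classical
  let b := Module.finBasis K P
  refine ⟨Finset.univ.image fun i => (b i : A), ?_, ?_⟩
  · exact Finset.card_image_le.trans (by rw [Finset.card_univ, Fintype.card_fin])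
  · rw [Finset.coe_image, Finset.coe_univ, Set.image_univ]
    have h1 : (Set.range fun i => (b i : A)) = P.subtype '' Set.range b := by
      rw [← Set.range_comp]
      rfl
    rw [h1, ← Submodule.map_span, b.span_eq, Submodule.map_top, Submodule.range_subtype]

theorem finite_pow (P : Submodule K A) [FiniteDimensional K P] (k : ℕ) : FiniteDimensional K ↥(P ^ k) := by
  classical
  obtain ⟨S, -, hS⟩ := exists_span P
  rw [← hS, Submodule.span_pow]
  have h1 : ((S : Set A) ^ k).Finite := by
    rw [← Finset.coe_pow]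
    exact Finset.finite_toSet _
  exact FiniteDimensional.span_of_finite K h1

theorem finrank_pow_le (P : Submodule K A) [FiniteDimensional K P] (k : ℕ) :
    finrank K ↥(P ^ k) ≤ finrank K P ^ k := by
  classical
  obtain ⟨S, hc, hS⟩ := exists_span P
  have h1 : P ^ k = Submodule.span K ((S ^ k : Finset A) : Set A) := by
    rw [← hS, Submodule.span_pow, Finset.coe_pow]
  rw [h1]
  refine (finrank_span_finset_le_card (S ^ k)).trans (Finset.card_pow_le.trans ?_)
  exact Nat.pow_le_pow_left hc k

end pow

variable {K : Type u} [Field K] {G : Type w} [Group G]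

/-! ### polynomials along cosets -/

/-- the functions which are polynomials of degree `≤ D` along the cosets of the one-parameter subgroups -/
def Pol (F : Subfield K) {ι : Type*} (x : ι → F → G) (D : ℕ) : Submodule K (G → K) where
  carrier := {f | ∀ g i, ∃ p : K[X], p.natDegree ≤ D ∧ ∀ t : F, f (g * x i t) = p.eval (t : K)}
  zero_mem' := fun g i => ⟨0, by simp, fun t => by simp⟩
  add_mem' := by
    intro f f' hf hf' g i
    obtain ⟨p, hp, h⟩ := hf g i
    obtain ⟨p', hp', h'⟩ := hf' g i
    exact ⟨p + p', (natDegree_add_le _ _).trans (max_le hp hp'), fun t => by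
      rw [Pi.add_apply, h, h', eval_add]⟩
  smul_mem' := by
    intro c f hf g i
    obtain ⟨p, hp, h⟩ := hf g i
    exact ⟨C c * p, (natDegree_C_mul_le c p).trans hp, fun t => by
      rw [Pi.smul_apply, h, smul_eq_mul, eval_mul, eval_C]⟩

variable {F : Subfield K} {ι : Type*} {x : ι → F → G}

theorem mem_pol {D : ℕ} {f : G → K} :
    f ∈ Pol F x D ↔ ∀ g i, ∃ p : K[X], p.natDegree ≤ D ∧ ∀ t : F, f (g * x i t) = p.eval (t : K) := Iff.rfl

theorem pol_mul (D D' : ℕ) : Pol F x D * Pol F x D' ≤ Pol F x (D + D') := by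
  refine Submodule.mul_le.2 fun f hf f' hf' g i => ?_
  obtain ⟨p, hp, h⟩ := hf g i
  obtain ⟨p', hp', h'⟩ := hf' g i
  exact ⟨p * p', natDegree_mul_le.trans (add_le_add hp hp'), fun t => by
    rw [Pi.mul_apply, h, h', eval_mul]⟩

theorem pol_pow (D k : ℕ) : Pol F x D ^ k ≤ Pol F x (k * D) := by
  induction k with
  | zero =>
    rw [pow_zero, zero_mul, Submodule.one_eq_span, Submodule.span_le, Set.singleton_subset_iff]
    intro g i
    exact ⟨1, by simp, fun t => by simp⟩
  | succ k ih =>
    rw [pow_succ, Nat.succ_mul]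
    exact (mul_le_mul' ih le_rfl).trans (pol_mul _ _)

/-! ### right translations -/

/-- the right translation by `h` -/
def rtr (h : G) : (G → K) →ₐ[K] (G → K) where
  toFun f g := f (g * h)
  map_one' := rfl
  map_mul' _ _ := rfl
  map_zero' := rfl
  map_add' _ _ := rfl
  commutes' _ := rfl

theorem rtr_apply (h : G) (f : G → K) (g : G) : rtr h f g = f (g * h) := rfl

/-- translation invariant spaces of functions -/
def TInv (P : Submodule K (G → K)) : Prop := ∀ h : G, ∀ f ∈ P, rtr h f ∈ P

theorem TInv.pow {P : Submodule K (G → K)} (hP : TInv P) (k : ℕ) : TInv (P ^ k) := by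
  intro h f hf
  have h1 : P.map (rtr h).toLinearMap ≤ P := by
    rintro _ ⟨f', hf', rfl⟩
    exact hP h f' hf'
  have h2 : (P ^ k).map (rtr h).toLinearMap ≤ P ^ k := by
    rw [Submodule.map_pow]
    exact pow_le_pow_left' h1 k
  exact h2 ⟨f, hf, rfl⟩

/-! ### coefficients -/

variable {V : Type v} [AddCommGroup V] [Module K V] (R : G →* Module.End K V)

/-- the functions `y ↦ φ (R y) + c` -/
def cfMap : (Module.Dual K (Module.End K V) × K) →ₗ[K] (G → K) where
  toFun z y := z.1 (R y) + z.2
  map_add' z z' := by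
    funext y
    simp only [Prod.fst_add, Prod.snd_add, LinearMap.add_apply, Pi.add_apply]
    ring
  map_smul' c z := by
    funext y
    simp only [Prod.smul_fst, Prod.smul_snd, LinearMap.smul_apply, Pi.smul_apply, smul_eq_mul, RingHom.id_apply]
    ring

/-- the space of the functions `y ↦ φ (R y) + c` -/
def Cf : Submodule K (G → K) := LinearMap.range (cfMap R)

theorem mem_cf {f : G → K} : f ∈ Cf R ↔ ∃ (φ : Module.Dual K (Module.End K V)) (c : K), f = fun y => φ (R y) + c := by
  constructor
  · rintro ⟨⟨φ, c⟩, rfl⟩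
    exact ⟨φ, c, rfl⟩
  · rintro ⟨φ, c, rfl⟩
    exact ⟨⟨φ, c⟩, rfl⟩

theorem coef_mem (φ : Module.Dual K (Module.End K V)) : (fun y => φ (R y)) ∈ Cf R :=
  (mem_cf R).2 ⟨φ, 0, by simp⟩

theorem one_mem_cf : (1 : G → K) ∈ Cf R :=
  (mem_cf R).2 ⟨0, 1, by funext y; simp⟩

theorem one_mem_pow (k : ℕ) : (1 : G → K) ∈ Cf R ^ k := by
  have h1 := Submodule.pow_mem_pow (Cf R) (one_mem_cf R) k
  rwa [one_pow] at h1

theorem const_mem_pow (k : ℕ) (c : K) : (fun _ : G => c) ∈ Cf R ^ k := by
  have h1 := (Cf R ^ k).smul_mem c (one_mem_pow R k)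
  convert h1 using 1
  funext y
  simp

theorem cf_tinv : TInv (Cf R) := by
  intro h f hf
  obtain ⟨φ, c, rfl⟩ := (mem_cf R).1 hf
  refine (mem_cf R).2 ⟨φ.comp (LinearMap.mulRight K (R h)), c, ?_⟩
  funext y
  rw [rtr_apply, map_mul]
  rfl

theorem cf_le_pol {e : ℕ} (h : PolyDeg R F x e) : Cf R ≤ Pol F x e := by
  intro f hf g i
  obtain ⟨φ, c, rfl⟩ := (mem_cf R).1 hf
  obtain ⟨a, ha⟩ := h i
  refine ⟨∑ j ∈ Finset.range (e + 1), C (φ (R g * a j)) * X ^ j + C c, ?_, ?_⟩
  · refine (natDegree_add_le _ _).trans (max_le ?_ (by rw [natDegree_C]; omega))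
    refine natDegree_sum_le_of_forall_le _ _ fun j hj => ?_
    exact (natDegree_C_mul_X_pow_le _ _).trans (Nat.lt_succ_iff.1 (Finset.mem_range.1 hj))
  · intro t
    change φ (R (g * x i t)) + c = _
    rw [map_mul, ha t, Finset.mul_sum, map_sum, eval_add, eval_C, eval_finsetSum]
    congr 1
    refine Finset.sum_congr rfl fun j _ => ?_
    rw [mul_smul_comm, map_smul, eval_mul, eval_C, eval_pow, eval_X, smul_eq_mul, mul_comm]

section

variable [FiniteDimensional K V]

instance finite_cf : FiniteDimensional K ↥(Cf R) := by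
  unfold Cf
  infer_instance

theorem finrank_cf : finrank K ↥(Cf R) ≤ finrank K V ^ 2 + 1 := by
  unfold Cf
  refine (LinearMap.finrank_range_le (cfMap R)).trans ?_
  rw [finrank_prod, Subspace.dual_finrank_eq, finrank_linearMap, finrank_self, sq]

theorem finrank_cf_pow (k : ℕ) : finrank K ↥(Cf R ^ k) ≤ (finrank K V ^ 2 + 1) ^ k :=
  (finrank_pow_le (Cf R) k).trans (Nat.pow_le_pow_left (finrank_cf R) k)

end

theorem trace_mem (k : ℕ) : (fun y => (LinearMap.trace K V (R y)) ^ k) ∈ Cf R ^ k :=
  Submodule.pow_mem_pow (Cf R) (coef_mem R (LinearMap.trace K V)) k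

theorem entry_mem {n : Type*} [Fintype n] [DecidableEq n] (b : Basis n K V) (k : ℕ) (i j : n) :
    (fun y => LinearMap.toMatrix b b (R (y ^ k)) i j) ∈ Cf R ^ k := by
  induction k generalizing i j with
  | zero =>
    simp only [pow_zero, map_one]
    exact const_mem_pow R 0 _
  | succ k ih =>
    have h1 : (fun y => LinearMap.toMatrix b b (R (y ^ (k + 1))) i j) =
        ∑ l, (fun y => LinearMap.toMatrix b b (R (y ^ k)) i l) * fun y => LinearMap.toMatrix b b (R y) l j := by
      funext y
      rw [Finset.sum_apply, pow_succ, map_mul, LinearMap.toMatrix_mul, Matrix.mul_apply]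
      rfl
    rw [h1, pow_succ]
    refine Submodule.sum_mem _ fun l _ => Submodule.mul_mem_mul (ih i l) ?_
    have h2 := coef_mem R ((LinearMap.proj j).comp ((LinearMap.proj l).comp (LinearMap.toMatrix b b).toLinearMap) :
      Module.End K V →ₗ[K] K)
    exact h2

end Cfsg.Agent.H811.BR
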