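import Cfsg.Agent.H811.BR.Coef
import Cfsg.Agent.H110.BR.SZ

/-!
# The tasks A4, A5 of HUB BR from Schwartz–Zippel (helper811)

* `zeros_le` : the number of zeros of a nonzero `f ∈ Cf R ^ k`;
* `typ_pow`, `typ_tr` : stubs A4, A5.
-/

set_option autoImplicit false

namespace Cfsg.Agent.H811.BR

open Cfsg.Agent.H883.BR Polynomial Module

universe u v w

/-- **Schwartz–Zippel** -/
def SZ : Prop := ∀ (K : Type u) [Field K] (F : Subfield K) [Finite F] (G : Type w) [Group G] [Finite G] (ι : Type w)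
  (x : ι → F → G), OneP F x → ∀ (P : Submodule K (G → K)) (D : ℕ), D < Nat.card F → TInv P → P ≤ Pol F x D →
  ∀ f ∈ P, f ≠ 0 → Nat.card F * Nat.card {g : G // f g = 0} ≤ D * finrank K P * Nat.card G

theorem sz_holds : SZ.{u, w} := by
  intro K _ F _ G _ _ ι x hx P D _ hT hP f hf h0
  refine H110.BR.sz F hx.add ?_ (fun f hf i t => hT (x i t) f hf) (fun f hf => hP hf) hf (Function.ne_iff.1 h0)
  have h1 : {g | ∃ i t, g = x i t} = {g : G | ∃ i t, x i t = g} := by
    ext g
    simp only [Set.mem_ofPred_eq, eq_comm]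
  rw [h1]
  exact hx.gen

/-! ### the proper subfields -/

section sub

variable {K : Type u} [Field K] {F F' : Subfield K}

theorem exists_pow [Finite F] (h : F' < F) : ∃ r : ℕ, 2 ≤ r ∧ Nat.card F = Nat.card F' ^ r := by
  have hf' : Finite F' := Finite.Set.subset (F : Set K) h.le
  let _ : Algebra F' F := (Subfield.inclusion h.le).toAlgebra
  have h1 : Nat.card F = Nat.card F' ^ finrank F' F := Module.natCard_eq_pow_finrank
  refine ⟨_, ?_, h1⟩
  by_contra hr
  have h2 : 1 < Nat.card F := Finite.one_lt_card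
  have h3 : finrank F' F = 0 ∨ finrank F' F = 1 := by omega
  rcases h3 with h3 | h3
  · rw [h3, pow_zero] at h1
    omega
  · rw [h3, pow_one] at h1
    have h4 : (F' : Set K) = F := by
      refine Set.eq_of_subset_of_ncard_le h.le ?_ (Set.toFinite _)
      change Nat.card F ≤ Nat.card F'
      exact h1.le
    exact h.ne (SetLike.coe_injective h4)

theorem sum_pow_le {p : ℕ} (hp : 2 ≤ p) (s : ℕ) : ∑ a ∈ Finset.range (s + 1), p ^ a ≤ 2 * p ^ s := by
  induction s with
  | zero => simp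
  | succ s ih =>
    rw [Finset.sum_range_succ]
    have h1 : 2 * p ^ s ≤ p ^ (s + 1) := by
      rw [pow_succ, mul_comm]
      exact Nat.mul_le_mul_left _ hp
    omega

/-- the elements of the proper subfields -/
theorem exists_finset (F : Subfield K) [Finite F] : ∃ S : Finset K, (∀ F' : Subfield K, F' < F → ∀ c ∈ F', c ∈ S) ∧
    Nat.sqrt (Nat.card F) * S.card ≤ 2 * Nat.card F := by
  classical
  obtain ⟨p, hp⟩ := CharP.exists K
  have hpF : CharP F p := (F.subtype.charP_iff F.subtype.injective p).2 hp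
  have hft : Fintype F := Fintype.ofFinite F
  obtain ⟨n, hpp, hn⟩ := FiniteField.card F p
  rw [← Nat.card_eq_fintype_card] at hn
  have hne : ∀ a : ℕ, 1 ≤ a → (X ^ p ^ a - X : K[X]) ≠ 0 := fun a ha =>
    FiniteField.X_pow_card_pow_sub_X_ne_zero K (by omega) hpp.one_lt
  refine ⟨(Finset.Icc 1 ((n : ℕ) / 2)).biUnion fun a => (X ^ p ^ a - X : K[X]).roots.toFinset, ?_, ?_⟩
  · intro F' hF' c hc
    obtain ⟨r, hr, hr1⟩ := exists_pow hF'
    have hf' : Finite F' := Finite.Set.subset (F : Set K) hF'.le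
    have hpF' : CharP F' p := (F'.subtype.charP_iff F'.subtype.injective p).2 hp
    have hft' : Fintype F' := Fintype.ofFinite F'
    obtain ⟨a, -, ha⟩ := FiniteField.card F' p
    rw [Finset.mem_biUnion]
    refine ⟨a, Finset.mem_Icc.2 ⟨a.pos, ?_⟩, ?_⟩
    · rw [Nat.card_eq_fintype_card (α := F'), ha, hn, ← pow_mul] at hr1
      have h2 := Nat.pow_right_injective hpp.two_le hr1
      have h3 : (a : ℕ) * 2 ≤ a * r := Nat.mul_le_mul_left _ hr
      omega
    · rw [Multiset.mem_toFinset, mem_roots (hne a a.pos), IsRoot.def, eval_sub, eval_pow, eval_X, sub_eq_zero]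
      have h1 := FiniteField.pow_card (⟨c, hc⟩ : F')
      rw [ha] at h1
      exact congrArg Subtype.val h1
  · have h1 : ((Finset.Icc 1 ((n : ℕ) / 2)).biUnion fun a => (X ^ p ^ a - X : K[X]).roots.toFinset).card ≤
        2 * p ^ ((n : ℕ) / 2) := by
      refine (Finset.card_biUnion_le).trans (le_trans ?_ (sum_pow_le hpp.two_le ((n : ℕ) / 2)))
      refine (Finset.sum_le_sum (g := fun a => p ^ a) fun a ha => ?_).trans
        (Finset.sum_le_sum_of_subset fun a ha => ?_)
      · have ha1 := (Finset.mem_Icc.1 ha).1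
        refine (Multiset.toFinset_card_le _).trans ((card_roots' _).trans ?_)
        rw [FiniteField.X_pow_card_pow_sub_X_natDegree_eq K (by omega) hpp.one_lt]
      · exact Finset.mem_range.2 (Nat.lt_succ_of_le (Finset.mem_Icc.1 ha).2)
    have h2 : p ^ ((n : ℕ) / 2) ≤ Nat.sqrt (Nat.card F) := by
      rw [Nat.le_sqrt, ← pow_add, hn]
      exact Nat.pow_le_pow_right hpp.pos (by omega)
    calc _ ≤ Nat.sqrt (Nat.card F) * (2 * p ^ ((n : ℕ) / 2)) := Nat.mul_le_mul_left _ h1
      _ ≤ Nat.sqrt (Nat.card F) * (2 * Nat.sqrt (Nat.card F)) := Nat.mul_le_mul_left _ (Nat.mul_le_mul_left _ h2)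
      _ = 2 * (Nat.sqrt (Nat.card F) * Nat.sqrt (Nat.card F)) := by ring
      _ ≤ 2 * Nat.card F := Nat.mul_le_mul_left _ (Nat.sqrt_le _)

end sub

/-! ### zeros -/

section zero

variable {K : Type u} [Field K] {F : Subfield K} [Finite F] {G : Type w} [Group G] [Finite G] {ι : Type w}
  {x : ι → F → G} {V : Type u} [AddCommGroup V] [Module K V] [FiniteDimensional K V] {R : G →* Module.End K V}

theorem zeros_le (hSZ : SZ.{u, w}) {m e k k' : ℕ} (hm : finrank K V ≤ m) (hx : OneP F x) (hR : PolyDeg R F x e)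
    (hk : k ≤ k') {f : G → K} (hf : f ∈ Cf R ^ k) (h0 : f ≠ 0) :
    Nat.card F * Nat.card {g : G // f g = 0} ≤ k' * e * (m ^ 2 + 1) ^ k' * Nat.card G := by
  have h1 : (k * e) * (finrank K V ^ 2 + 1) ^ k ≤ k' * e * (m ^ 2 + 1) ^ k' := by
    refine Nat.mul_le_mul (Nat.mul_le_mul_right _ hk) ?_
    refine (Nat.pow_le_pow_left (Nat.add_le_add_right (Nat.pow_le_pow_left hm 2) 1) k).trans ?_
    exact Nat.pow_le_pow_right (Nat.succ_pos _) hk
  by_cases hD : k * e < Nat.card F
  · have h2 := hSZ K F G ι x hx (Cf R ^ k) (k * e) hD ((cf_tinv R).pow k)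
      ((pow_le_pow_left' (cf_le_pol R hR) k).trans (pol_pow e k)) f hf h0
    refine h2.trans (Nat.mul_le_mul_right _ (le_trans ?_ h1))
    exact Nat.mul_le_mul_left _ (finrank_cf_pow R k)
  · have h2 : Nat.card {g : G // f g = 0} ≤ Nat.card G := Nat.card_le_card_of_injective _ Subtype.val_injective
    refine Nat.mul_le_mul ((not_lt.1 hD).trans (le_trans ?_ h1)) h2
    exact Nat.le_mul_of_pos_right _ (Nat.pow_pos (Nat.succ_pos _))

end zero

/-- A4 -/
theorem typ_pow_of (hSZ : SZ.{u, w}) (m e k : ℕ) : ∃ C : ℕ, ∀ (K : Type u) [Field K] (F : Subfield K) [Finite F]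
    (G : Type w) [Group G]
    [Finite G] (ι : Type w) (x : ι → F → G) (V : Type u) [AddCommGroup V] [Module K V] [FiniteDimensional K V]
    (R : G →* Module.End K V), Module.finrank K V ≤ m → OneP F x → PolyDeg R F x e →
    (∃ g : G, R (g ^ k) ≠ 1) →
    Nat.card F * Nat.card {y : G // R (y ^ k) = 1} ≤ C * Nat.card G := by
  refine ⟨k * e * (m ^ 2 + 1) ^ k, ?_⟩
  intro K _ F _ G _ _ ι x V _ _ _ R hm hx hR hg
  obtain ⟨g, hg⟩ := hg
  obtain ⟨b, -⟩ : ∃ b : Basis (Fin (finrank K V)) K V, b = Module.finBasis K V := ⟨_, rfl⟩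
  obtain ⟨i, j, hij⟩ : ∃ i j, LinearMap.toMatrix b b (R (g ^ k)) i j ≠ LinearMap.toMatrix b b 1 i j := by
    by_contra hcon
    push Not at hcon
    exact hg ((LinearMap.toMatrix b b).injective (Matrix.ext hcon))
  obtain ⟨f, hf⟩ : ∃ f : G → K, f = (fun y => LinearMap.toMatrix b b (R (y ^ k)) i j) -
    fun _ => LinearMap.toMatrix b b 1 i j := ⟨_, rfl⟩
  have h1 : f ∈ Cf R ^ k := by
    rw [hf]
    exact Submodule.sub_mem _ (entry_mem R b k i j) (const_mem_pow R k _)
  have h2 : f ≠ 0 := by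
    intro h0
    have h3 := congrFun h0 g
    rw [hf] at h3
    exact hij (sub_eq_zero.1 h3)
  refine le_trans (Nat.mul_le_mul_left _ ?_) (zeros_le hSZ hm hx hR le_rfl h1 h2)
  refine Nat.card_le_card_of_injective (fun y : {y : G // R (y ^ k) = 1} => (⟨y.1, ?_⟩ : {g : G // f g = 0})) ?_
  · rw [hf]
    change LinearMap.toMatrix b b (R (y.1 ^ k)) i j - LinearMap.toMatrix b b 1 i j = 0
    rw [y.2, sub_self]
  · intro y y' hy
    exact Subtype.ext (congrArg (fun z : {g : G // f g = 0} => z.1) hy)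

/-- A4 -/
theorem typ_pow (m e k : ℕ) : ∃ C : ℕ, ∀ (K : Type u) [Field K] (F : Subfield K) [Finite F] (G : Type w) [Group G]
    [Finite G] (ι : Type w) (x : ι → F → G) (V : Type u) [AddCommGroup V] [Module K V] [FiniteDimensional K V]
    (R : G →* Module.End K V), Module.finrank K V ≤ m → OneP F x → PolyDeg R F x e →
    (∃ g : G, R (g ^ k) ≠ 1) →
    Nat.card F * Nat.card {y : G // R (y ^ k) = 1} ≤ C * Nat.card G := typ_pow_of sz_holds m e k

/-- A5 -/
theorem typ_tr_of (hSZ : SZ.{u, w}) (m e : ℕ) : ∃ C : ℕ, ∀ (K : Type u) [Field K] (F : Subfield K) [Finite F]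
    (G : Type w) [Group G]
    [Finite G] (ι : Type w) (x : ι → F → G) (V : Type u) [AddCommGroup V] [Module K V] [FiniteDimensional K V]
    (R : G →* Module.End K V), Module.finrank K V ≤ m → OneP F x → PolyDeg R F x e →
    (∃ g h : G, (LinearMap.trace K V (R g)) ^ Module.finrank K V ≠ (LinearMap.trace K V (R h)) ^ Module.finrank K V) →
    Nat.sqrt (Nat.card F) * Nat.card {y : G // ¬ TrGen F R y} ≤ C * Nat.card G := by
  refine ⟨2 * (m * e * (m ^ 2 + 1) ^ m), ?_⟩
  intro K _ F _ G _ _ ι x V _ _ _ R hm hx hR hg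
  obtain ⟨g, h, hgh⟩ := hg
  obtain ⟨S, hS, hSc⟩ := exists_finset F
  obtain ⟨f, hf⟩ : ∃ f : K → G → K, f = fun c => (fun y => (LinearMap.trace K V (R y)) ^ finrank K V) -
    fun _ => c := ⟨_, rfl⟩
  have hfa : ∀ c y, f c y = (LinearMap.trace K V (R y)) ^ finrank K V - c := fun c y => by rw [hf]; rfl
  have h1 : ∀ c, f c ∈ Cf R ^ finrank K V := by
    intro c
    rw [hf]
    exact Submodule.sub_mem _ (trace_mem R _) (const_mem_pow R _ _)
  have h2 : ∀ c, f c ≠ 0 := by
    intro c h0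
    have h3 := congrFun h0 g
    have h4 := congrFun h0 h
    rw [hfa, Pi.zero_apply, sub_eq_zero] at h3 h4
    exact hgh (h3.trans h4.symm)
  have h3 : ∀ c, Nat.card F * Nat.card {g : G // f c g = 0} ≤ m * e * (m ^ 2 + 1) ^ m * Nat.card G := fun c =>
    zeros_le hSZ hm hx hR hm (h1 c) (h2 c)
  have h4 : Nat.card {y : G // ¬ TrGen F R y} ≤ ∑ c ∈ S, Nat.card {g : G // f c g = 0} := by
    have h5 : Nat.card (Σ c : S, {g : G // f c g = 0}) = ∑ c ∈ S, Nat.card {g : G // f c g = 0} := by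
      rw [Nat.card_sigma]
      exact Finset.sum_coe_sort S fun c => Nat.card {g : G // f c g = 0}
    rw [← h5]
    have h6 : ∀ y : {y : G // ¬ TrGen F R y}, (LinearMap.trace K V (R y.1)) ^ finrank K V ∈ S := by
      rintro ⟨y, hy⟩
      unfold TrGen at hy
      push Not at hy
      obtain ⟨F', hF', hc⟩ := hy
      exact hS F' hF' _ hc
    refine Nat.card_le_card_of_injective (fun y : {y : G // ¬ TrGen F R y} =>
      (⟨⟨_, h6 y⟩, ⟨y.1, by rw [hfa, sub_self]⟩⟩ : Σ c : S, {g : G // f c g = 0})) ?_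
    intro y y' hy
    have h7 := congrArg (fun z : (Σ c : S, {g : G // f c g = 0}) => z.2.1) hy
    exact Subtype.ext h7
  have h5 : Nat.card F * Nat.card {y : G // ¬ TrGen F R y} ≤ S.card * (m * e * (m ^ 2 + 1) ^ m * Nat.card G) := by
    refine (Nat.mul_le_mul_left _ h4).trans ?_
    rw [Finset.mul_sum, ← smul_eq_mul (a := S.card)]
    exact Finset.sum_le_card_nsmul _ _ _ fun c _ => h3 c
  have hpos : 0 < Nat.card F := Nat.card_pos
  refine Nat.le_of_mul_le_mul_left ?_ hpos
  calc Nat.card F * (Nat.sqrt (Nat.card F) * Nat.card {y : G // ¬ TrGen F R y})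
      = Nat.sqrt (Nat.card F) * (Nat.card F * Nat.card {y : G // ¬ TrGen F R y}) := by ring
    _ ≤ Nat.sqrt (Nat.card F) * (S.card * (m * e * (m ^ 2 + 1) ^ m * Nat.card G)) := Nat.mul_le_mul_left _ h5
    _ = (Nat.sqrt (Nat.card F) * S.card) * (m * e * (m ^ 2 + 1) ^ m * Nat.card G) := by ring
    _ ≤ (2 * Nat.card F) * (m * e * (m ^ 2 + 1) ^ m * Nat.card G) := Nat.mul_le_mul_right _ hSc
    _ = Nat.card F * (2 * (m * e * (m ^ 2 + 1) ^ m) * Nat.card G) := by ring

/-- A5 -/
theorem typ_tr (m e : ℕ) : ∃ C : ℕ, ∀ (K : Type u) [Field K] (F : Subfield K) [Finite F] (G : Type w) [Group G]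
    [Finite G] (ι : Type w) (x : ι → F → G) (V : Type u) [AddCommGroup V] [Module K V] [FiniteDimensional K V]
    (R : G →* Module.End K V), Module.finrank K V ≤ m → OneP F x → PolyDeg R F x e →
    (∃ g h : G, (LinearMap.trace K V (R g)) ^ Module.finrank K V ≠ (LinearMap.trace K V (R h)) ^ Module.finrank K V) →
    Nat.sqrt (Nat.card F) * Nat.card {y : G // ¬ TrGen F R y} ≤ C * Nat.card G := typ_tr_of sz_holds m e

end Cfsg.Agent.H811.BR
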